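import Mathlib

/-!
Strong approximation for a number field off one finite place.
-/

set_option autoImplicit false
open IsDedekindDomain NumberField WithZero

namespace Groth.StrongApx

universe u

variable (k : Type u) [Field k] [NumberField k]

theorem exists_exp_neg_lt {z : ℤᵐ⁰} (hz : z ≠ 0) : ∃ e : ℕ, (exp (-(e : ℤ))) < z := by
  obtain ⟨n, rfl⟩ : ∃ n : ℤ, z = exp n := ⟨log z, (exp_log hz).symm⟩
  exact ⟨n.natAbs + 1, exp_lt_exp.2 (by omega)⟩

theorem exists_integral_near (S : Finset (HeightOneSpectrum (𝓞 k)))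
    (y : HeightOneSpectrum (𝓞 k) → k) (γ : HeightOneSpectrum (𝓞 k) → ℤᵐ⁰) (hγ : ∀ v ∈ S, γ v ≠ 0) :
    ∃ x : k, (∀ v ∈ S, v.valuation k (x - y v) < γ v) ∧ ∀ v ∉ S, v.valuation k x ≤ 1 := by
  classical
  obtain ⟨⟨N, hN⟩, hint⟩ := IsLocalization.exist_integer_multiples (nonZeroDivisors (𝓞 k)) S y
  have hN0 : N ≠ 0 := nonZeroDivisors.ne_zero hN
  have hNk : algebraMap (𝓞 k) k N ≠ 0 := by simpa using hN0
  choose a ha using hint
  have hfin : {v : HeightOneSpectrum (𝓞 k) | v.asIdeal ∣ Ideal.span {N}}.Finite :=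
    Ideal.finite_factors (by simpa using hN0)
  let S' := S ∪ hfin.toFinset
  let g : HeightOneSpectrum (𝓞 k) → ℤᵐ⁰ := fun v =>
    if v ∈ S then γ v * v.valuation k (algebraMap _ k N) else v.valuation k (algebraMap _ k N)
  have hg : ∀ v, g v ≠ 0 := fun v => by
    simp only [g]
    split_ifs with h
    · exact mul_ne_zero (hγ v h) ((Valuation.ne_zero_iff _).2 hNk)
    · exact (Valuation.ne_zero_iff _).2 hNk
  choose e he using fun v => exists_exp_neg_lt (hg v)
  obtain ⟨r, hr⟩ := IsDedekindDomain.exists_forall_sub_mem_ideal (s := S') (fun v => v.asIdeal) e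
    (fun v _ => v.prime) (fun v _ w _ h e => h (HeightOneSpectrum.ext e))
    (fun v => if h : (v : HeightOneSpectrum (𝓞 k)) ∈ S then a v h else 0)
  have key : ∀ v (hv : v ∈ S') (z : 𝓞 k), r - z ∈ v.asIdeal ^ e v →
      v.valuation k (algebraMap (𝓞 k) k r - algebraMap (𝓞 k) k z) < g v := by
    intro v hv z h
    rw [← map_sub, HeightOneSpectrum.valuation_of_algebraMap]
    exact lt_of_le_of_lt ((v.intValuation_le_pow_iff_mem _ _).2 h) (he v)
  refine ⟨algebraMap (𝓞 k) k r / algebraMap (𝓞 k) k N, fun v hv => ?_, fun v hv => ?_⟩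
  · have hv' : v ∈ S' := Finset.mem_union_left _ hv
    have h0 := hr v hv'
    rw [dif_pos hv] at h0
    have h1 := key v hv' (a v hv) h0
    rw [ha v hv, show g v = γ v * v.valuation k (algebraMap _ k N) from if_pos hv] at h1
    have e2 : algebraMap (𝓞 k) k r / algebraMap (𝓞 k) k N - y v =
        (algebraMap (𝓞 k) k r - N • y v) / algebraMap (𝓞 k) k N := by
      rw [Algebra.smul_def]; field_simp
    rw [e2, map_div₀, div_lt_iff₀ (zero_lt_iff.2 ((Valuation.ne_zero_iff _).2 hNk))]
    exact h1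
  · rw [map_div₀, div_le_iff₀ (zero_lt_iff.2 ((Valuation.ne_zero_iff _).2 hNk)), one_mul]
    by_cases hv' : v ∈ S'
    · have h0 := hr v hv'
      rw [dif_neg hv] at h0
      have h1 := key v hv' 0 h0
      rw [map_zero, sub_zero, show g v = v.valuation k (algebraMap _ k N) from if_neg hv] at h1
      exact h1.le
    · have : v.valuation k (algebraMap (𝓞 k) k N) = 1 := by
        rw [HeightOneSpectrum.valuation_eq_one_iff_notMem]
        intro h
        exact hv' (Finset.mem_union_right _ (hfin.mem_toFinset.2 (Ideal.dvd_span_singleton.2 h)))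
      rw [this]
      exact v.valuation_le_one r

theorem infinitePlace_ratCast (w : InfinitePlace k) (q : ℚ) : w (q : k) = |(q : ℝ)| := by
  rw [← InfinitePlace.norm_embedding_eq w, map_ratCast, Complex.norm_ratCast]

theorem infinitePlace_le_sum_repr (w : InfinitePlace k) (x : k) :
    w x ≤ ∑ l, |((integralBasis k).repr x l : ℝ)| * w (integralBasis k l) := by
  conv_lhs => rw [← (integralBasis k).sum_repr x]
  refine (w.1.sum_le _ _).trans_eq (Finset.sum_congr rfl fun l _ => ?_)
  show w ((integralBasis k).repr x l • integralBasis k l) = _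
  rw [Rat.smul_def, map_mul, infinitePlace_ratCast]

theorem valuation_intComb_le (v : HeightOneSpectrum (𝓞 k))
    (c : Module.Free.ChooseBasisIndex ℤ (𝓞 k) → ℤ) :
    v.valuation k (∑ l, (c l : k) * integralBasis k l) ≤ 1 := by
  have : ∑ l, (c l : k) * integralBasis k l =
      algebraMap (𝓞 k) k (∑ l, (c l : 𝓞 k) * RingOfIntegers.basis k l) := by
    simp [map_sum, integralBasis_apply]
  rw [this]
  exact v.valuation_le_one _

/-- An element integral away from `v₀` which is small at every infinite place. -/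
theorem exists_small (v₀ : HeightOneSpectrum (𝓞 k)) (η : ℝ) (hη : 0 < η) :
    ∃ x : k, x ≠ 0 ∧ (∀ v, v ≠ v₀ → v.valuation k x ≤ 1) ∧ ∀ w : InfinitePlace k, w x < η := by
  classical
  let ι := Module.Free.ChooseBasisIndex ℤ (𝓞 k)
  let C : ℝ := ∑ w : InfinitePlace k, ∑ l : ι, w (integralBasis k l) + 1
  have hsum : (0 : ℝ) ≤ ∑ w : InfinitePlace k, ∑ l : ι, w (integralBasis k l) :=
    Finset.sum_nonneg fun w _ => Finset.sum_nonneg fun l _ => apply_nonneg w _
  obtain ⟨M, hM⟩ := exists_nat_gt (C / η)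
  have hC : 0 < C := by positivity
  have hM0 : (0 : ℝ) < M := lt_trans (div_pos hC hη) hM
  have hMq : (0 : ℚ) < M := by exact_mod_cast hM0
  choose p hp using fun i : ℕ => v₀.valuation_surjective k (exp ((i : ℤ) + 1))
  choose y hy hy' using fun i : ℕ => exists_integral_near k {v₀} (fun _ => p i) (fun _ => 1)
    (fun _ _ => one_ne_zero)
  have hvy : ∀ i, v₀.valuation k (y i) = exp ((i : ℤ) + 1) := by
    intro i
    have h := hy i v₀ (Finset.mem_singleton_self _)
    have h1 : (1 : ℤᵐ⁰) < exp ((i : ℤ) + 1) := by rw [← exp_zero, exp_lt_exp]; omega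
    rw [← hp i]
    exact Valuation.map_eq_of_sub_lt _ (by rw [hp i]; exact h.trans h1)
  let box : ℕ → ι → Fin M := fun i l =>
    ⟨(⌊(M : ℚ) * Int.fract ((integralBasis k).repr (y i) l)⌋).toNat, by
      have h0 := Int.fract_nonneg ((integralBasis k).repr (y i) l)
      have h1 := Int.fract_lt_one ((integralBasis k).repr (y i) l)
      have hM' : 0 < M := by exact_mod_cast hMq
      rw [Int.toNat_lt (Int.floor_nonneg.2 (by positivity)), Int.floor_lt]
      push_cast
      nlinarith⟩
  obtain ⟨i, j, hij, hbox⟩ := Finite.exists_ne_map_eq_of_infinite box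
  let c : ι → ℤ := fun l => ⌊(integralBasis k).repr (y i) l⌋ - ⌊(integralBasis k).repr (y j) l⌋
  let x := y i - y j - ∑ l, (c l : k) * integralBasis k l
  have hx0 : (1 : ℤᵐ⁰) < v₀.valuation k x := by
    have h1 : (1 : ℤᵐ⁰) < v₀.valuation k (y i - y j) := by
      rcases lt_or_gt_of_ne hij with h | h
      · rw [Valuation.map_sub_eq_of_lt_right _ (by rw [hvy, hvy, exp_lt_exp]; omega), hvy, ← exp_zero, exp_lt_exp]
        omega
      · rw [Valuation.map_sub_eq_of_lt_left _ (by rw [hvy, hvy, exp_lt_exp]; omega), hvy, ← exp_zero, exp_lt_exp]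
        omega
    show _ < v₀.valuation k (y i - y j - _)
    rw [Valuation.map_sub_eq_of_lt_left _ (lt_of_le_of_lt (valuation_intComb_le k v₀ c) h1)]
    exact h1
  refine ⟨x, fun h => ?_, fun v hv => ?_, fun w => ?_⟩
  · rw [h, map_zero] at hx0; exact not_lt.2 zero_le_one hx0
  · have hv' : v ∉ ({v₀} : Finset _) := by simpa using hv
    exact (Valuation.map_sub _ _ _).trans
      (max_le ((Valuation.map_sub _ _ _).trans (max_le (hy' i v hv') (hy' j v hv'))) (valuation_intComb_le k v c))
  · refine (infinitePlace_le_sum_repr k w x).trans_lt ?_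
    have hrepr : ∀ l, |((integralBasis k).repr x l : ℝ)| ≤ 1 / M := by
      intro l
      have hs : ∑ l, (c l : k) * integralBasis k l = ∑ l, (c l : ℚ) • integralBasis k l := by
        simp [Rat.smul_def]
      have e1 : (integralBasis k).repr x l =
          Int.fract ((integralBasis k).repr (y i) l) - Int.fract ((integralBasis k).repr (y j) l) := by
        show (integralBasis k).repr (y i - y j - _) l = _
        rw [hs, map_sub, map_sub]
        rw [Finsupp.sub_apply, Finsupp.sub_apply, congrFun ((integralBasis k).repr_sum_self (fun l => (c l : ℚ))) l]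
        simp only [c, Int.fract]
        push_cast; ring
      have e2 := congrArg (fun t => (t l : ℕ)) hbox
      simp only [box] at e2
      have hnn : ∀ i, 0 ≤ ⌊(M : ℚ) * Int.fract ((integralBasis k).repr (y i) l)⌋ := fun i =>
        Int.floor_nonneg.2 (mul_nonneg hMq.le (Int.fract_nonneg _))
      have e3 := Int.abs_sub_lt_one_of_floor_eq_floor
        (show ⌊(M : ℚ) * Int.fract ((integralBasis k).repr (y i) l)⌋ =
          ⌊(M : ℚ) * Int.fract ((integralBasis k).repr (y j) l)⌋ by
          have := hnn i; have := hnn j; omega)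
      rw [← mul_sub, abs_mul, abs_of_pos hMq] at e3
      have e4 : |(integralBasis k).repr x l| ≤ (1 : ℚ) / M := by
        rw [e1, le_div_iff₀ hMq, mul_comm]; exact e3.le
      have e5 : ((|(integralBasis k).repr x l| : ℚ) : ℝ) ≤ (((1 : ℚ) / M : ℚ) : ℝ) := Rat.cast_le.2 e4
      simpa [Rat.cast_abs] using e5
    calc ∑ l, |((integralBasis k).repr x l : ℝ)| * w (integralBasis k l)
        ≤ ∑ l, 1 / (M : ℝ) * w (integralBasis k l) :=
          Finset.sum_le_sum fun l _ => mul_le_mul_of_nonneg_right (hrepr l) (apply_nonneg w _)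
      _ ≤ 1 / (M : ℝ) * (∑ w : InfinitePlace k, ∑ l : ι, w (integralBasis k l)) := by
          rw [← Finset.mul_sum]
          exact mul_le_mul_of_nonneg_left (Finset.single_le_sum
            (f := fun w : InfinitePlace k => ∑ l : ι, w (integralBasis k l))
            (fun w _ => Finset.sum_nonneg fun l _ => apply_nonneg w _) (Finset.mem_univ w)) (by positivity)
      _ < 1 / (M : ℝ) * C := mul_lt_mul_of_pos_left (lt_add_one _) (by positivity)
      _ < η := by
          rw [one_div_mul_eq_div, div_lt_iff₀ hM0]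
          rw [div_lt_iff₀ hη] at hM
          linarith

/-- Strong approximation off `v₀` in the field itself. -/
theorem exists_near (v₀ : HeightOneSpectrum (𝓞 k)) (S : Finset (HeightOneSpectrum (𝓞 k))) (hv₀ : v₀ ∉ S)
    (y : HeightOneSpectrum (𝓞 k) → k) (γ : HeightOneSpectrum (𝓞 k) → ℤᵐ⁰) (hγ : ∀ v ∈ S, γ v ≠ 0)
    (t : k) (ε : ℝ) (hε : 0 < ε) :
    ∃ x : k, (∀ v ∈ S, v.valuation k (x - y v) < γ v) ∧
      (∀ v, v ∉ S → v ≠ v₀ → v.valuation k x ≤ 1) ∧ ∀ w : InfinitePlace k, w (x - t) < ε := by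
  classical
  obtain ⟨x₁, h₁, h₁'⟩ := exists_integral_near k S y γ hγ
  have hex : ∀ v : HeightOneSpectrum (𝓞 k), ∃ r : 𝓞 k, r ≠ 0 ∧ (v ∈ S → v.valuation k (algebraMap _ k r) < γ v) := by
    intro v
    by_cases hv : v ∈ S
    · obtain ⟨e, he⟩ := exists_exp_neg_lt (hγ v hv)
      obtain ⟨π, hπ⟩ := v.intValuation_exists_uniformizer
      have hπ0 : π ≠ 0 := by rintro rfl; rw [map_zero] at hπ; exact exp_ne_zero hπ.symm
      refine ⟨π ^ e, pow_ne_zero _ hπ0, fun _ => ?_⟩
      rw [HeightOneSpectrum.valuation_of_algebraMap, map_pow, hπ, ← exp_nsmul]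
      simpa using he
    · exact ⟨1, one_ne_zero, fun h => absurd h hv⟩
  choose r hr0 hr using hex
  let p : 𝓞 k := ∏ v ∈ S, r v
  have hp : ∀ v ∈ S, v.valuation k (algebraMap _ k p) < γ v := by
    intro v hv
    refine lt_of_le_of_lt ?_ (hr v hv)
    simp only [p, ← Finset.mul_prod_erase _ _ hv, map_mul]
    exact mul_le_of_le_one_right zero_le (v.valuation_le_one _)
  let C : ℝ := ∑ w : InfinitePlace k, ∑ l, w (integralBasis k l) + 1
  let P : ℝ := ∑ w : InfinitePlace k, w (algebraMap (𝓞 k) k p) + 1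
  have hC : 0 < C := add_pos_of_nonneg_of_pos
    (Finset.sum_nonneg fun w _ => Finset.sum_nonneg fun l _ => apply_nonneg w _) one_pos
  have hP : 0 < P := add_pos_of_nonneg_of_pos (Finset.sum_nonneg fun w _ => apply_nonneg w _) one_pos
  obtain ⟨δ, hδ0, hδ1, hδ2⟩ := exists_small k v₀ (ε / (C * P)) (div_pos hε (mul_pos hC hP))
  let d := algebraMap (𝓞 k) k p * δ
  have hd0 : d ≠ 0 := mul_ne_zero (by simpa [p, Finset.prod_eq_zero_iff] using fun v _ => hr0 v) hδ0
  let s := (t - x₁) / d
  let c := fun l => ⌊(integralBasis k).repr s l⌋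
  let m : k := ∑ l, (c l : k) * integralBasis k l
  refine ⟨x₁ + d * m, fun v hv => ?_, fun v hv hv' => ?_, fun w => ?_⟩
  · have hd : v.valuation k (d * m) < γ v := by
      refine lt_of_le_of_lt ?_ (hp v hv)
      rw [map_mul, map_mul, mul_assoc]
      exact mul_le_of_le_one_right zero_le
        (mul_le_one' (hδ1 v (by rintro rfl; exact hv₀ hv)) (valuation_intComb_le k v c))
    rw [add_sub_right_comm]
    exact lt_of_le_of_lt (Valuation.map_add _ _ _) (max_lt (h₁ v hv) hd)
  · refine (Valuation.map_add _ _ _).trans (max_le (h₁' v hv) ?_)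
    rw [map_mul, map_mul, mul_assoc]
    exact mul_le_one' (v.valuation_le_one _) (mul_le_one' (hδ1 v hv') (valuation_intComb_le k v c))
  · have e : x₁ + d * m - t = d * (m - s) := by
      simp only [s]; field_simp; ring
    rw [e, map_mul, map_mul]
    have hms : w (m - s) < C := by
      refine (infinitePlace_le_sum_repr k w _).trans_lt (lt_of_le_of_lt ?_ (lt_add_one _))
      refine le_trans ?_ (Finset.single_le_sum (f := fun w : InfinitePlace k => ∑ l, w (integralBasis k l))
        (fun w _ => Finset.sum_nonneg fun l _ => apply_nonneg w _) (Finset.mem_univ w))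
      refine Finset.sum_le_sum fun l _ => mul_le_of_le_one_left (apply_nonneg w _) ?_
      have hm : m = ∑ l, (c l : ℚ) • integralBasis k l := by simp [m, Rat.smul_def]
      have hrepr : |(integralBasis k).repr (m - s) l| ≤ (1 : ℚ) := by
        rw [hm, map_sub]
        rw [Finsupp.sub_apply, congrFun ((integralBasis k).repr_sum_self (fun l => (c l : ℚ))) l]
        simp only [c]
        rw [abs_sub_comm, abs_of_nonneg (sub_nonneg.2 (Int.floor_le _))]
        linarith [Int.lt_floor_add_one ((integralBasis k).repr s l)]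
      have e5 : ((|(integralBasis k).repr (m - s) l| : ℚ) : ℝ) ≤ ((1 : ℚ) : ℝ) := Rat.cast_le.2 hrepr
      simpa [Rat.cast_abs] using e5
    have hw : w (algebraMap (𝓞 k) k p) ≤ P :=
      le_trans (Finset.single_le_sum (f := fun w : InfinitePlace k => w (algebraMap (𝓞 k) k p))
        (fun w _ => apply_nonneg w _) (Finset.mem_univ w)) (le_add_of_nonneg_right one_pos.le)
    calc w (algebraMap (𝓞 k) k p) * w δ * w (m - s)
        ≤ P * (ε / (C * P)) * w (m - s) :=
          mul_le_mul_of_nonneg_right (mul_le_mul hw (hδ2 w).le (apply_nonneg w _) hP.le) (apply_nonneg w _)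
      _ < P * (ε / (C * P)) * C := mul_lt_mul_of_pos_left hms (mul_pos hP (div_pos hε (mul_pos hC hP)))
      _ = ε := by field_simp

/-- Strong approximation off `v₀`, with open conditions in the completions. -/
theorem exists_mem_open (v₀ : HeightOneSpectrum (𝓞 k)) (S : Finset (HeightOneSpectrum (𝓞 k))) (hv₀ : v₀ ∉ S)
    (U : (v : HeightOneSpectrum (𝓞 k)) → Set (v.adicCompletion k))
    (hU : ∀ v ∈ S, IsOpen (U v) ∧ (U v).Nonempty)
    (V : (w : InfinitePlace k) → Set w.Completion) (hV : ∀ w, IsOpen (V w) ∧ (V w).Nonempty) :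
    ∃ x : k, (∀ v ∈ S, algebraMap k (v.adicCompletion k) x ∈ U v) ∧
      (∀ w, algebraMap k w.Completion x ∈ V w) ∧
      ∀ v, v ∉ S → v ≠ v₀ → v.valuation k x ≤ 1 := by
  classical
  have hfin : ∀ v : HeightOneSpectrum (𝓞 k), ∃ (y : k) (γ : ℤᵐ⁰), v ∈ S → γ ≠ 0 ∧
      ∀ z : k, v.valuation k (z - y) < γ → algebraMap k (v.adicCompletion k) z ∈ U v := by
    intro v
    by_cases hv : v ∈ S
    · obtain ⟨y, hy⟩ := (v.denseRange_algebraMap k).exists_mem_open (hU v hv).1 (hU v hv).2
      obtain ⟨g, hg⟩ := Valued.mem_nhds.1 ((hU v hv).1.mem_nhds hy)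
      refine ⟨y, MonoidWithZeroHom.ValueGroup₀.embedding g.1, fun _ => ⟨?_, fun z hz => hg ?_⟩⟩
      · exact fun h => g.ne_zero (by simpa using h)
      · show (Valued.v (R := v.adicCompletion k) (Γ₀ := ℤᵐ⁰)).restrict _ < _
        rw [Valuation.restrict_lt_iff_lt_embedding, ← map_sub]
        rwa [show algebraMap k (v.adicCompletion k) (z - y) = ((z - y : k) : v.adicCompletion k) from rfl,
          HeightOneSpectrum.valuedAdicCompletion_eq_valuation']
    · exact ⟨0, 0, fun h => absurd h hv⟩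
  choose y γ hyγ using hfin
  obtain ⟨t, ht⟩ := (InfiniteAdeleRing.denseRange_algebraMap k).exists_mem_open
    (isOpen_set_pi Set.finite_univ fun w _ => (hV w).1)
    (Set.univ_pi_nonempty_iff.2 fun w => (hV w).2)
  have hball : ∀ w : InfinitePlace k, ∃ ε : ℝ, 0 < ε ∧
      ∀ z : k, w (z - t) < ε → algebraMap k w.Completion z ∈ V w := by
    intro w
    obtain ⟨ε, hε, hb⟩ := Metric.isOpen_iff.1 (hV w).1 _
      (show algebraMap k w.Completion t ∈ V w from ht w (Set.mem_univ w))
    refine ⟨ε, hε, fun z hz => hb ?_⟩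
    rw [Metric.mem_ball, dist_eq_norm, ← map_sub]
    refine lt_of_eq_of_lt ?_ hz
    rw [InfinitePlace.Completion.algebraMap_apply]
    exact (InfinitePlace.Completion.norm_coe w ((WithAbs.equiv w.1).symm (z - t))).trans (congrArg w ((WithAbs.equiv w.1).apply_symm_apply _))
  choose ε hε hball using hball
  obtain ⟨x, hx₁, hx₂, hx₃⟩ := exists_near k v₀ S hv₀ y γ (fun v hv => (hyγ v hv).1) t
    (Finset.univ.inf' Finset.univ_nonempty ε) ((Finset.lt_inf'_iff _).2 fun w _ => hε w)
  exact ⟨x, fun v hv => (hyγ v hv).2 x (hx₁ v hv),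
    fun w => hball w x (lt_of_lt_of_le (hx₃ w) (Finset.inf'_le _ (Finset.mem_univ w))), hx₂⟩

end Groth.StrongApx
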