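import Mathlib
import Groth.Agent.StrongApx.Basic

/-!
Simple roots in completions, and infinitely many places at which a polynomial has a root.
-/

set_option autoImplicit false
open IsDedekindDomain NumberField WithZero Polynomial Filter Topology

namespace Groth.StrongApx

universe u

variable (k : Type u) [Field k] [NumberField k]

theorem valuation_eval_le (v : HeightOneSpectrum (𝓞 k)) (p : k[X]) (x : k)
    (hp : ∀ i, v.valuation k (p.coeff i) ≤ 1) (hx : v.valuation k x ≤ 1) : v.valuation k (p.eval x) ≤ 1 := by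
  rw [Polynomial.eval_eq_sum_range]
  refine Valuation.map_sum_le _ fun i _ => ?_
  rw [map_mul, map_pow]
  exact mul_le_one' (hp i) (pow_le_one' hx i)

theorem exists_root_completion (v : HeightOneSpectrum (𝓞 k)) (f a b : k[X])
    (hab : a * f + b * derivative f = 1) (hf : ∀ i, v.valuation k (f.coeff i) ≤ 1)
    (ha : ∀ i, v.valuation k (a.coeff i) ≤ 1) (hb : ∀ i, v.valuation k (b.coeff i) ≤ 1)
    (r₀ : k) (hr₀ : v.valuation k r₀ ≤ 1) (hlt : v.valuation k (f.eval r₀) < 1) :
    ∃ ρ : v.adicCompletion k, Polynomial.aeval ρ f = 0 := by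
  let F : Subring k := (v.valuation k).integer
  have hd : ∀ i, v.valuation k ((derivative f).coeff i) ≤ 1 := by
    intro i
    rw [Polynomial.coeff_derivative, map_mul]
    refine mul_le_one' (hf _) ?_
    rw [show ((i : k) + 1) = algebraMap (𝓞 k) k ((i : 𝓞 k) + 1) by simp]
    exact v.valuation_le_one _
  have hder : ∀ r, v.valuation k r ≤ 1 → v.valuation k (f.eval r) < 1 →
      v.valuation k ((derivative f).eval r) = 1 := by
    intro r hr h
    refine le_antisymm (valuation_eval_le k v _ r hd hr) ?_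
    have h1 : v.valuation k (a.eval r * f.eval r) < 1 := by
      rw [map_mul]; exact lt_of_le_of_lt (mul_le_of_le_one_left zero_le (valuation_eval_le k v a r ha hr)) h
    have h2 : b.eval r * (derivative f).eval r = 1 + -(a.eval r * f.eval r) := by
      rw [← Polynomial.eval_mul, ← Polynomial.eval_mul, eq_sub_of_add_eq' hab]
      simp [sub_eq_add_neg]
    have h3 : v.valuation k (b.eval r * (derivative f).eval r) = 1 := by
      rw [h2]; exact Valuation.map_one_add_of_lt _ (by rwa [Valuation.map_neg])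
    rw [← h3, map_mul]
    exact mul_le_of_le_one_left zero_le (valuation_eval_le k v b r hb hr)
  let step : k → k := fun r => r - f.eval r / (derivative f).eval r
  let r : ℕ → k := fun m => step^[m] r₀
  have hr : ∀ m, v.valuation k (r m) ≤ 1 ∧ v.valuation k (f.eval (r m)) ≤ exp (-((m : ℤ) + 1)) ∧
      v.valuation k (r (m + 1) - r m) ≤ exp (-((m : ℤ) + 1)) := by
    intro m
    have key : ∀ m, v.valuation k (r m) ≤ 1 → v.valuation k (f.eval (r m)) ≤ exp (-((m : ℤ) + 1)) →
        v.valuation k (r (m + 1) - r m) ≤ exp (-((m : ℤ) + 1)) := by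
      intro m h1 h2
      have hlt' : v.valuation k (f.eval (r m)) < 1 := lt_of_le_of_lt h2 (by rw [← exp_zero, exp_lt_exp]; omega)
      rw [show r (m + 1) = step (r m) from Function.iterate_succ_apply' step m r₀]
      simp only [step, sub_sub_cancel_left, Valuation.map_neg, map_div₀, hder _ h1 hlt', div_one]
      exact h2
    suffices v.valuation k (r m) ≤ 1 ∧ v.valuation k (f.eval (r m)) ≤ exp (-((m : ℤ) + 1)) from
      ⟨this.1, this.2, key m this.1 this.2⟩
    induction m with
    | zero =>
      refine ⟨hr₀, ?_⟩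
      show v.valuation k (f.eval r₀) ≤ _
      rcases eq_or_ne (v.valuation k (f.eval r₀)) 0 with h | h
      · rw [h]; exact zero_le
      · rw [← exp_log h] at hlt ⊢
        rw [← exp_zero, exp_lt_exp] at hlt
        rw [exp_le_exp]; omega
    | succ m ih =>
      obtain ⟨h1, h2⟩ := ih
      have h3 := key m h1 h2
      have hlt' : v.valuation k (f.eval (r m)) < 1 := lt_of_le_of_lt h2 (by rw [← exp_zero, exp_lt_exp]; omega)
      have h4 : v.valuation k (r (m + 1)) ≤ 1 := by
        rw [show r (m + 1) = r m + (r (m + 1) - r m) by ring]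
        exact (Valuation.map_add _ _ _).trans (max_le h1 (h3.trans (by rw [← exp_zero, exp_le_exp]; omega)))
      refine ⟨h4, ?_⟩
      -- Taylor expansion to first order
      set fZ : F[X] := f.toSubring F (fun c hc => by
        obtain ⟨i, -, rfl⟩ := Polynomial.mem_coeffs_iff.1 hc
        exact hf i) with hfZ
      let x : F := ⟨r m, h1⟩
      let y : F := ⟨r (m + 1) - r m, h3.trans (by rw [← exp_zero, exp_le_exp]; omega)⟩
      obtain ⟨z, hz⟩ := fZ.binomExpansion x y
      have hmap : fZ.map F.subtype = f := by ext i; simp [hfZ]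
      have e := congrArg F.subtype hz
      simp only [map_add, map_mul, map_pow] at e
      rw [← Polynomial.eval₂_hom, ← Polynomial.eval₂_hom, ← Polynomial.eval₂_hom,
        ← Polynomial.eval_map, ← Polynomial.eval_map, ← Polynomial.eval_map, ← Polynomial.derivative_map, hmap,
        map_add] at e
      have e0 : f.eval (r m) + (derivative f).eval (r m) * (r (m + 1) - r m) = 0 := by
        rw [show r (m + 1) = step (r m) from Function.iterate_succ_apply' step m r₀]
        have hne : (derivative f).eval (r m) ≠ 0 := fun h => by simpa [h] using hder _ h1 hlt'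
        simp only [step]; field_simp; ring
      change f.eval (r m + (r (m + 1) - r m)) =
        f.eval (r m) + (derivative f).eval (r m) * (r (m + 1) - r m) + (z : k) * (r (m + 1) - r m) ^ 2 at e
      rw [e0, zero_add, show r m + (r (m + 1) - r m) = r (m + 1) by ring] at e
      rw [e, map_mul, map_pow]
      refine le_trans (mul_le_of_le_one_left zero_le z.2) ?_
      refine le_trans (pow_le_pow_left' h3 2) ?_
      rw [← exp_nsmul, exp_le_exp]
      simp only [nsmul_eq_mul]
      push_cast; omega
  let R : ℕ → v.adicCompletion k := fun m => algebraMap k _ (r m)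
  have valC : ∀ z : k, Valued.v (algebraMap k (v.adicCompletion k) z) = v.valuation k z :=
    fun z => HeightOneSpectrum.valuedAdicCompletion_eq_valuation' v z
  have hdiff : ∀ m j, v.valuation k (r (m + j) - r m) ≤ exp (-((m : ℤ) + 1)) := by
    intro m j
    induction j with
    | zero => simp
    | succ j ih =>
      rw [show r (m + (j + 1)) - r m = (r (m + j + 1) - r (m + j)) + (r (m + j) - r m) by
        rw [← Nat.add_assoc]; ring]
      refine (Valuation.map_add _ _ _).trans (max_le ((hr (m + j)).2.2.trans ?_) ih)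
      rw [exp_le_exp]; push_cast; omega
  have hsmall : ∀ γ : ℤᵐ⁰, γ ≠ 0 → ∃ M : ℕ, exp (-((M : ℤ) + 1)) < γ := by
    intro γ hγ
    obtain ⟨e, he⟩ := exists_exp_neg_lt hγ
    exact ⟨e, lt_trans (exp_lt_exp.2 (by omega)) he⟩
  have hcau : CauchySeq R := by
    show Cauchy _
    rw [Valued.cauchy_iff]
    refine ⟨map_neBot, fun γ => ?_⟩
    obtain ⟨M, hM⟩ := hsmall (MonoidWithZeroHom.ValueGroup₀.embedding γ.1)
      (fun h => γ.ne_zero (by simpa using h))
    refine ⟨R '' Set.Ici M, image_mem_map (Ici_mem_atTop M), ?_⟩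
    rintro _ ⟨i, hi, rfl⟩ _ ⟨j, hj, rfl⟩
    obtain ⟨i', rfl⟩ := Nat.exists_eq_add_of_le (Set.mem_Ici.1 hi)
    obtain ⟨j', rfl⟩ := Nat.exists_eq_add_of_le (Set.mem_Ici.1 hj)
    rw [Valuation.restrict_lt_iff_lt_embedding, ← map_sub, valC]
    refine lt_of_le_of_lt ?_ hM
    rw [show r (M + j') - r (M + i') = (r (M + j') - r M) - (r (M + i') - r M) by ring]
    exact (Valuation.map_sub _ _ _).trans (max_le (hdiff M j') (hdiff M i'))
  obtain ⟨ρ, hρ⟩ := cauchySeq_tendsto_of_complete hcau
  refine ⟨ρ, tendsto_nhds_unique ((f.continuous_aeval.tendsto ρ).comp hρ) ?_⟩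
  rw [Filter.tendsto_iff_forall_eventually_mem]
  intro s hs
  obtain ⟨γ, hγ⟩ := Valued.mem_nhds_zero.1 hs
  obtain ⟨M, hM⟩ := hsmall (MonoidWithZeroHom.ValueGroup₀.embedding γ.1)
    (fun h => γ.ne_zero (by simpa using h))
  refine eventually_atTop.2 ⟨M, fun m hm => hγ ?_⟩
  show (Valued.v (R := v.adicCompletion k) (Γ₀ := ℤᵐ⁰)).restrict _ < _
  rw [Valuation.restrict_lt_iff_lt_embedding]
  have e : Polynomial.aeval (R m) f = algebraMap k (v.adicCompletion k) (f.eval (r m)) := by
    rw [Polynomial.aeval_algebraMap_apply, Polynomial.coe_aeval_eq_eval]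
  simp only [Function.comp_apply]
  rw [e, valC]
  exact lt_of_le_of_lt ((hr m).2.1.trans (exp_le_exp.2 (by omega))) hM

theorem exists_place_root_aux (f : k[X]) (hf : 0 < f.natDegree) (h0 : f.eval 0 ≠ 0)
    (P : Finset (HeightOneSpectrum (𝓞 k))) :
    ∃ v, v ∉ P ∧ ∃ c : k, v.valuation k c ≤ 1 ∧ v.valuation k (f.eval c) < 1 := by
  classical
  let Bad : Set (HeightOneSpectrum (𝓞 k)) := (P : Set _) ∪ ⋃ i ∈ f.support, HeightOneSpectrum.Support _ (f.coeff i)
  have hBad : Bad.Finite := P.finite_toSet.union
    ((Finset.finite_toSet _).biUnion fun i _ => HeightOneSpectrum.Support.finite _ _)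
  by_contra hno
  push Not at hno
  have hint : ∀ v ∉ Bad, ∀ i, v.valuation k (f.coeff i) ≤ 1 := by
    intro v hv i
    by_cases hi : i ∈ f.support
    · exact not_lt.1 fun h => hv (Or.inr (Set.mem_biUnion hi h))
    · rw [Polynomial.notMem_support_iff.1 hi, map_zero]; exact zero_le
  let f₀ := f.eval 0
  -- an integer multiple making the value a unit times `f₀` at the bad places
  let S := hBad.toFinset
  obtain ⟨M, hM0, hM⟩ : ∃ M : ℕ, M ≠ 0 ∧ ∀ v ∈ S, ∀ i, 0 < i →
      v.valuation k (f.coeff i) * v.valuation k (M : k) < v.valuation k f₀ := by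
    have hex : ∀ v : HeightOneSpectrum (𝓞 k), ∃ N : ℕ, N ≠ 0 ∧ v.valuation k (N : k) < 1 := by
      intro v
      refine ⟨Ideal.absNorm v.asIdeal, fun h => v.ne_bot (Ideal.absNorm_eq_zero_iff.1 h), ?_⟩
      rw [← map_natCast (algebraMap (𝓞 k) k), HeightOneSpectrum.valuation_lt_one_iff_mem]
      exact Ideal.absNorm_mem _
    choose N hN0 hN using hex
    have hex2 : ∀ v : HeightOneSpectrum (𝓞 k), ∀ i : ℕ, ∃ e : ℕ,
        v.valuation k (f.coeff i) * v.valuation k (N v : k) ^ e < v.valuation k f₀ := by
      intro v i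
      rcases eq_or_ne (v.valuation k (f.coeff i)) 0 with h | h
      · exact ⟨0, by rw [h, zero_mul]; exact zero_lt_iff.2 ((Valuation.ne_zero_iff _).2 h0)⟩
      obtain ⟨e, he⟩ := exists_exp_neg_lt (mul_ne_zero (inv_ne_zero h) ((Valuation.ne_zero_iff (v.valuation k)).2 h0))
      refine ⟨e, lt_of_le_of_lt (mul_le_mul_right (pow_le_pow_left' (?_ : _ ≤ exp (-1 : ℤ)) e) _) ?_⟩
      · rw [← map_natCast (algebraMap (𝓞 k) k), HeightOneSpectrum.valuation_of_algebraMap]
        have := (v.intValuation_le_pow_iff_mem (N v : 𝓞 k) 1).2 (by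
          rw [pow_one]; have h1 := hN v
          rwa [← map_natCast (algebraMap (𝓞 k) k), HeightOneSpectrum.valuation_lt_one_iff_mem] at h1)
        simpa using this
      · rw [← exp_nsmul, show (e • (-1 : ℤ)) = -(e : ℤ) by simp]
        calc v.valuation k (f.coeff i) * exp (-(e : ℤ))
            < v.valuation k (f.coeff i) * ((v.valuation k (f.coeff i))⁻¹ * v.valuation k f₀) :=
              mul_lt_mul_of_pos_left he (zero_lt_iff.2 h)
          _ = _ := by rw [← mul_assoc, mul_inv_cancel₀ h, one_mul]
    choose e he using hex2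
    refine ⟨∏ v ∈ S, ∏ i ∈ Finset.range (f.natDegree + 1), N v ^ e v i, ?_, fun v hv i _ => ?_⟩
    · exact Finset.prod_ne_zero_iff.2 fun v _ => Finset.prod_ne_zero_iff.2 fun i _ => pow_ne_zero _ (hN0 v)
    · by_cases hi : i ≤ f.natDegree
      · refine lt_of_le_of_lt (mul_le_mul_right ?_ _) (he v i)
        rw [← Finset.mul_prod_erase _ _ hv, ← Finset.mul_prod_erase _ _ (Finset.mem_range.2 (Nat.lt_succ_of_le hi))]
        push_cast
        rw [map_mul, map_mul, map_pow, mul_assoc]
        refine mul_le_of_le_one_right zero_le (mul_le_one' ?_ ?_) <;>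
        · simp only [map_prod, map_pow]
          refine Finset.prod_le_one' fun _ _ => ?_
          first
            | exact pow_le_one' (by rw [← map_natCast (algebraMap (𝓞 k) k)]; exact v.valuation_le_one _) _
            | exact Finset.prod_le_one' fun _ _ => pow_le_one' (by rw [← map_natCast (algebraMap (𝓞 k) k)]; exact v.valuation_le_one _) _
      · rw [Polynomial.coeff_eq_zero_of_natDegree_lt (not_le.1 hi), map_zero, zero_mul]
        exact zero_lt_iff.2 ((Valuation.ne_zero_iff _).2 h0)
  -- the values are units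
  have hval : ∀ m : ℕ, ∀ v : HeightOneSpectrum (𝓞 k),
      v.valuation k (f.eval ((M : k) * m) / f₀) = 1 ∨ (v ∉ Bad ∧ v.valuation k f₀ < 1) := by
    intro m v
    by_cases hv : v ∈ Bad
    · left
      have hm : v.valuation k (f.eval ((M : k) * m) - f₀) < v.valuation k f₀ := by
        rw [Polynomial.eval_eq_sum_range, Finset.sum_range_succ', show f₀ = f.coeff 0 from (Polynomial.coeff_zero_eq_eval_zero f).symm,
          pow_zero, mul_one, add_sub_cancel_right]
        refine Valuation.map_sum_lt' _ (zero_lt_iff.2 ((Valuation.ne_zero_iff _).2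
          (by rw [Polynomial.coeff_zero_eq_eval_zero]; exact h0))) fun i _ => ?_
        rw [Polynomial.coeff_zero_eq_eval_zero, map_mul, map_pow, map_mul]
        refine lt_of_le_of_lt (mul_le_mul_right ?_ _) (hM v (hBad.mem_toFinset.2 hv) (i + 1) (Nat.succ_pos i))
        have hM1 : v.valuation k (M : k) ≤ 1 := by
          rw [← map_natCast (algebraMap (𝓞 k) k)]; exact v.valuation_le_one _
        have hm1 : v.valuation k (m : k) ≤ 1 := by
          rw [← map_natCast (algebraMap (𝓞 k) k)]; exact v.valuation_le_one _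
        rw [pow_succ']
        exact (mul_le_of_le_one_right zero_le (pow_le_one' (mul_le_one' hM1 hm1) i)).trans (mul_le_of_le_one_right zero_le hm1)
      rw [map_div₀, Valuation.map_eq_of_sub_lt _ hm, div_self ((Valuation.ne_zero_iff _).2 h0)]
    · have hMm : v.valuation k ((M : k) * m) ≤ 1 := by
        rw [← map_natCast (algebraMap (𝓞 k) k), ← map_natCast (algebraMap (𝓞 k) k) m, ← map_mul]
        exact v.valuation_le_one _
      have h1 : v.valuation k (f.eval ((M : k) * m)) = 1 := le_antisymm
        (valuation_eval_le k v _ _ (hint v hv) hMm) (hno v (fun h => hv (Or.inl h)) _ hMm)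
      have h2 : v.valuation k f₀ = 1 := le_antisymm
        (valuation_eval_le k v _ _ (hint v hv) (by simp)) (hno v (fun h => hv (Or.inl h)) 0 (by simp))
      left; rw [map_div₀, h1, h2, div_one]
  have hval' : ∀ m : ℕ, ∀ v : HeightOneSpectrum (𝓞 k), v.valuation k (f.eval ((M : k) * m) / f₀) = 1 := by
    intro m v
    rcases hval m v with h | ⟨h, h'⟩
    · exact h
    · exact absurd h' (not_lt.2 (hno v (fun e => h (Or.inl e)) 0 (by simp)))
  -- contradiction with the product formula
  have hgrow : ∀ w : InfinitePlace k, ∀ᶠ m : ℕ in atTop, 1 < w (f.eval ((M : k) * m) / f₀) := by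
    intro w
    have hlim : Tendsto (fun m : ℕ => ‖(f.map w.embedding).eval ((M : ℂ) * m)‖) atTop atTop := by
      refine Polynomial.tendsto_norm_atTop (f.map w.embedding) ?_ ?_
      · rw [Polynomial.degree_map]; exact Polynomial.natDegree_pos_iff_degree_pos.1 hf
      · simp only [norm_mul, Complex.norm_natCast]
        exact tendsto_natCast_atTop_atTop.const_mul_atTop (by exact_mod_cast Nat.pos_of_ne_zero hM0)
    filter_upwards [hlim.eventually_gt_atTop (w f₀)] with m hm
    rw [map_div₀, one_lt_div (InfinitePlace.pos_iff.2 h0)]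
    refine hm.trans_eq ?_
    rw [← InfinitePlace.norm_embedding_eq w, show ((M : ℂ) * m) = w.embedding ((M : k) * m) by simp,
      Polynomial.eval_map, Polynomial.eval₂_hom]
  obtain ⟨m, hm⟩ := (eventually_all.2 hgrow).exists
  obtain ⟨x, hx⟩ := HeightOneSpectrum.mem_integers_of_valuation_le_one k _ (fun v => (hval' m v).le)
  have hxu : IsUnit x := by
    by_contra hu
    obtain ⟨q, hq, hxq⟩ := exists_max_ideal_of_mem_nonunits hu
    have hqb : q ≠ ⊥ := Ring.ne_bot_of_isMaximal_of_not_isField hq (RingOfIntegers.not_isField k)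
    have := hval' m ⟨q, hq.isPrime, hqb⟩
    rw [← hx, HeightOneSpectrum.valuation_eq_one_iff_notMem] at this
    exact this hxq
  have hnorm := NumberField.isUnit_iff_norm.1 hxu
  have hprod := InfinitePlace.prod_eq_abs_norm (f.eval ((M : k) * m) / f₀)
  have h1 : (1 : ℝ) < ∏ w : InfinitePlace k, w (f.eval ((M : k) * m) / f₀) ^ w.mult := by
    rw [← Finset.mul_prod_erase _ _ (Finset.mem_univ (Classical.arbitrary (InfinitePlace k)))]
    exact one_lt_mul_of_lt_of_le (one_lt_pow₀ (hm _) InfinitePlace.mult_ne_zero)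
      (Finset.one_le_prod fun w _ => one_le_pow₀ (hm w).le)
  rw [hprod, ← hx] at h1
  rw [RingOfIntegers.coe_norm] at hnorm
  rw [show |Algebra.norm ℚ (algebraMap (𝓞 k) k x)| = 1 from hnorm] at h1
  norm_num at h1

theorem exists_place_root (f : k[X]) (hf : 0 < f.natDegree) (P : Finset (HeightOneSpectrum (𝓞 k))) :
    ∃ v, v ∉ P ∧ ∃ c : k, v.valuation k c ≤ 1 ∧ v.valuation k (f.eval c) < 1 := by
  have hf0 : f ≠ 0 := Polynomial.ne_zero_of_natDegree_gt hf
  obtain ⟨c₀, hc₀⟩ : ∃ c : 𝓞 k, f.eval (algebraMap (𝓞 k) k c) ≠ 0 := by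
    by_contra! h
    exact hf0 (Polynomial.eq_zero_of_infinite_isRoot _ (Set.Infinite.mono
      (s := Set.range (algebraMap (𝓞 k) k)) (by rintro _ ⟨c, rfl⟩; exact h c)
      (Set.infinite_range_of_injective (IsFractionRing.injective (𝓞 k) k))))
  obtain ⟨v, hv, c, hc, hlt⟩ := exists_place_root_aux k (f.comp (X + C (algebraMap (𝓞 k) k c₀)))
    (by rwa [Polynomial.natDegree_comp, Polynomial.natDegree_X_add_C, mul_one]) (by simpa using hc₀) P
  exact ⟨v, hv, c + algebraMap (𝓞 k) k c₀, (Valuation.map_add _ _ _).trans (max_le hc (v.valuation_le_one _)),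
    by simpa using hlt⟩

end Groth.StrongApx
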