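import Mathlib
import Groth.Agent.StrongApx.Basic
import Groth.Agent.StrongApx.Hensel

/-!
Tools for values of norm forms: vector valued approximation, norms after base change, embeddings.
-/

set_option autoImplicit false
open IsDedekindDomain NumberField TensorProduct Polynomial

namespace Groth.StrongApx

universe u

variable (k : Type u) [Field k] [NumberField k]

theorem exists_mem_open_vec (v₀ : HeightOneSpectrum (𝓞 k)) (S : Finset (HeightOneSpectrum (𝓞 k))) (hS : v₀ ∉ S)
    {ι : Type*} [Finite ι]
    (U : (v : HeightOneSpectrum (𝓞 k)) → Set (ι → v.adicCompletion k))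
    (V : (w : InfinitePlace k) → Set (ι → w.Completion))
    (hU : ∀ v ∈ S, IsOpen (U v) ∧ (U v).Nonempty) (hV : ∀ w, IsOpen (V w) ∧ (V w).Nonempty) :
    ∃ x : ι → k, (∀ v ∈ S, (fun i => algebraMap k (v.adicCompletion k) (x i)) ∈ U v) ∧
      (∀ w, (fun i => algebraMap k w.Completion (x i)) ∈ V w) ∧
      ∀ v, v ∉ S → v ≠ v₀ → ∀ i, v.valuation k (x i) ≤ 1 := by
  have hu : ∀ v : HeightOneSpectrum (𝓞 k), ∃ u : ι → Set (v.adicCompletion k),
      v ∈ S → (∀ i, IsOpen (u i) ∧ (u i).Nonempty) ∧ Set.univ.pi u ⊆ U v := by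
    intro v
    by_cases hv : v ∈ S
    · obtain ⟨z, hz⟩ := (hU v hv).2
      obtain ⟨u, hu, hus⟩ := isOpen_pi_iff'.1 (hU v hv).1 z hz
      exact ⟨u, fun _ => ⟨fun i => ⟨(hu i).1, z i, (hu i).2⟩, hus⟩⟩
    · exact ⟨fun _ => ∅, fun h => absurd h hv⟩
  choose u hu using hu
  have hv' : ∀ w, ∃ u : ι → Set (InfinitePlace.Completion w),
      (∀ i, IsOpen (u i) ∧ (u i).Nonempty) ∧ Set.univ.pi u ⊆ V w := by
    intro w
    obtain ⟨z, hz⟩ := (hV w).2
    obtain ⟨u, hu, hus⟩ := isOpen_pi_iff'.1 (hV w).1 z hz
    exact ⟨u, fun i => ⟨(hu i).1, z i, (hu i).2⟩, hus⟩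
  choose u' hu' using hv'
  choose x hx1 hx2 hx3 using fun i => exists_mem_open k v₀ S hS (fun v => u v i)
    (fun v hv => (hu v hv).1 i) (fun w => u' w i) (fun w => (hu' w).1 i)
  exact ⟨x, fun v hv => (hu v hv).2 fun i _ => hx1 i v hv, fun w => (hu' w).2 fun i _ => hx2 i w,
    fun v hv hv' i => hx3 i v hv hv'⟩

theorem infinite_of_isOpen (w : InfinitePlace k) (U : Set w.Completion) (hU : IsOpen U) (x : w.Completion)
    (hx : x ∈ U) : U.Infinite := by
  obtain ⟨ε, hε, hb⟩ := Metric.isOpen_iff.1 hU x hx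
  let r : w.Completion := algebraMap k w.Completion ((2 : k)⁻¹)
  have hr : ‖r‖ = 1 / 2 := by
    refine ((InfinitePlace.Completion.norm_coe w ((WithAbs.equiv w.1).symm ((2 : k)⁻¹))).trans
      (congrArg w ((WithAbs.equiv w.1).apply_symm_apply _))).trans ?_
    rw [show ((2 : k)⁻¹) = ((2⁻¹ : ℚ) : k) by push_cast; rfl, infinitePlace_ratCast]
    norm_num
  have h0 : (0 : ℝ) < ‖r‖ := by rw [hr]; norm_num
  have h1 : ‖r‖ < 1 := by rw [hr]; norm_num
  obtain ⟨N, hN⟩ := exists_pow_lt_of_lt_one hε h1
  refine Set.infinite_of_injective_forall_mem (f := fun e : ℕ => x + r ^ (e + N)) ?_ fun e => hb ?_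
  · intro e e' hee
    have hee' := congrArg norm (add_left_cancel hee)
    rw [norm_pow, norm_pow] at hee'
    have := (pow_right_strictAnti₀ h0 h1).injective hee'
    omega
  · rw [Metric.mem_ball, dist_eq_norm, add_sub_cancel_left, norm_pow]
    exact lt_of_le_of_lt (pow_le_pow_of_le_one (norm_nonneg _) h1.le (Nat.le_add_left _ _)) hN

/-- The norm form in coordinates, after base change. -/
theorem norm_coord {L : Type u} [Field L] [Algebra k L] [FiniteDimensional k L]
    (R : Type u) [Field R] [Algebra k R] [TopologicalSpace R] [IsTopologicalRing R]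
    {ι : Type} [Fintype ι] (B : Module.Basis ι k L) :
    ∃ N : (ι → R) → R, Continuous N ∧
      (∀ x : R ⊗[k] L, Algebra.norm R x = N fun l => (Algebra.TensorProduct.basis R B).repr x l) ∧
      (∀ ξ : ι → k, N (fun l => algebraMap k R (ξ l)) = algebraMap k R (Algebra.norm k (∑ l, ξ l • B l))) := by
  classical
  let B' := Algebra.TensorProduct.basis R B
  refine ⟨fun η => (∑ l, η l • Algebra.leftMulMatrix B' (B' l)).det, ?_, ?_, ?_⟩
  · refine Continuous.matrix_det (continuous_matrix fun i j => ?_)
    simp only [Matrix.sum_apply, Matrix.smul_apply, smul_eq_mul]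
    exact continuous_finsetSum _ fun l _ => (continuous_apply l).mul continuous_const
  · intro x
    rw [Algebra.norm_eq_matrix_det B']
    congr 1
    conv_lhs => rw [← B'.sum_repr x]
    simp only [map_sum, map_smul]
    rfl
  · intro ξ
    rw [Algebra.norm_eq_matrix_det B, RingHom.map_det]
    refine congrArg Matrix.det ?_
    ext i j
    simp only [Matrix.sum_apply, Matrix.smul_apply, smul_eq_mul, RingHom.mapMatrix_apply, Matrix.map_apply,
      map_sum, map_smul, map_mul, B', Algebra.leftMulMatrix_eq_repr_mul, Algebra.TensorProduct.basis_apply,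
      Algebra.TensorProduct.tmul_mul_tmul, mul_one, Algebra.TensorProduct.basis_repr_tmul, one_smul,
      Finsupp.mapRange_apply]

/-- The binary form `(-1)^n ∑ fᵢ (-c)ⁱ s^(n-i)`. -/
noncomputable def normForm (f : k[X]) (R : Type*) [CommRing R] [Algebra k R] (s c : R) : R :=
  (-1) ^ f.natDegree *
    ∑ i ∈ Finset.range (f.natDegree + 1), algebraMap k R (f.coeff i) * (-c) ^ i * s ^ (f.natDegree - i)

theorem normForm_one_zero (f : k[X]) (R : Type*) [CommRing R] [Algebra k R] :
    normForm k f R 1 0 = algebraMap k R ((-1) ^ f.natDegree * f.coeff 0) := by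
  rw [normForm, map_mul, map_pow, map_neg, map_one]
  congr 1
  rw [Finset.sum_eq_single 0]
  · simp
  · intro i _ hi0; simp [zero_pow hi0]
  · simp

theorem normForm_zero_one {f : k[X]} (hf : f.Monic) (R : Type*) [CommRing R] [Algebra k R] :
    normForm k f R 0 1 = 1 := by
  rw [normForm, Finset.sum_eq_single f.natDegree]
  · rw [hf.coeff_natDegree, map_one, one_mul, Nat.sub_self, pow_zero, mul_one, ← mul_pow]
    simp
  · intro i hi' hi0
    rw [zero_pow (by have := Finset.mem_range.1 hi'; omega), mul_zero]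
  · simp

theorem normForm_map (f : k[X]) (R : Type*) [CommRing R] [Algebra k R] (s c : k) :
    normForm k f R (algebraMap k R s) (algebraMap k R c) = algebraMap k R (normForm k f k s c) := by
  simp only [normForm, map_mul, map_pow, map_neg, map_one, map_sum, Algebra.algebraMap_self, RingHom.id_apply]

theorem continuous_normForm (f : k[X]) (R : Type*) [CommRing R] [Algebra k R] [TopologicalSpace R]
    [IsTopologicalRing R] : Continuous fun p : R × R => normForm k f R p.1 p.2 :=
  continuous_const.mul (continuous_finsetSum _ fun i _ =>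
    (continuous_const.mul ((continuous_snd.neg).pow i)).mul (continuous_fst.pow _))

theorem normForm_eq_eval (f : k[X]) (s c : k) (hs : s ≠ 0) :
    normForm k f k s c = (-1) ^ f.natDegree * s ^ f.natDegree * f.eval (-c / s) := by
  simp only [normForm, Polynomial.eval_eq_sum_range, Finset.mul_sum, Algebra.algebraMap_self, RingHom.id_apply]
  refine Finset.sum_congr rfl fun i hi' => ?_
  rw [div_pow]
  have : s ^ f.natDegree = s ^ (f.natDegree - i) * s ^ i := by
    rw [← pow_add, Nat.sub_add_cancel (Nat.lt_succ_iff.1 (Finset.mem_range.1 hi'))]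
  rw [this]; field_simp

theorem normForm_valuation_le (f : k[X]) (v : HeightOneSpectrum (𝓞 k)) (s c : k)
    (hf : ∀ i, v.valuation k (f.coeff i) ≤ 1) (hs : v.valuation k s ≤ 1) (hc : v.valuation k c ≤ 1) :
    v.valuation k (normForm k f k s c) ≤ 1 := by
  simp only [normForm, map_mul, map_pow, Valuation.map_neg, map_one, one_pow, one_mul]
  refine Valuation.map_sum_le _ fun i _ => ?_
  simp only [map_mul, map_pow, Valuation.map_neg, Algebra.algebraMap_self, RingHom.id_apply]
  exact mul_le_one' (mul_le_one' (hf i) (pow_le_one' hc i)) (pow_le_one' hs _)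

theorem normForm_valuation_eq_one {f : k[X]} (hm : f.Monic) (v : HeightOneSpectrum (𝓞 k)) (s c : k)
    (hf : ∀ i, v.valuation k (f.coeff i) ≤ 1) (hs : v.valuation k s < 1) (hc : v.valuation k c = 1) :
    v.valuation k (normForm k f k s c) = 1 := by
  simp only [normForm, map_mul, map_pow, Valuation.map_neg, map_one, one_pow, one_mul]
  rw [Finset.sum_range_succ, Nat.sub_self, pow_zero, mul_one, hm.coeff_natDegree]
  simp only [map_one, one_mul]
  rw [Valuation.map_add_eq_of_lt_right, map_pow, Valuation.map_neg, hc, one_pow]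
  rw [map_pow, Valuation.map_neg, hc, one_pow]
  refine Valuation.map_sum_lt _ one_ne_zero fun i hi' => ?_
  simp only [map_mul, map_pow, Valuation.map_neg, Algebra.algebraMap_self, RingHom.id_apply, hc, one_pow, mul_one]
  refine lt_of_le_of_lt (mul_le_of_le_one_left zero_le (hf i)) (pow_lt_one₀ zero_le hs ?_)
  have := Finset.mem_range.1 hi'; omega

attribute [irreducible] normForm

theorem nonempty_algHom_of_root {L : Type u} [Field L] [Algebra k L] [FiniteDimensional k L]
    (R : Type u) [Field R] [Algebra k R] (x : L) (hx : IntermediateField.adjoin k {x} = ⊤)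
    (ρ : R) (hρ : Polynomial.aeval ρ (minpoly k x) = 0) : Nonempty (L →ₐ[k] R) := by
  have hi : IsIntegral k x := IsIntegral.of_finite k x
  let e : L ≃ₐ[k] IntermediateField.adjoin k {x} :=
    (IntermediateField.topEquiv.symm).trans (IntermediateField.equivOfEq hx.symm)
  let pb := IntermediateField.adjoin.powerBasis hi
  refine ⟨(pb.lift ρ ?_).comp e.toAlgHom⟩
  rw [show minpoly k pb.gen = minpoly k x from IntermediateField.minpoly_gen k x]
  exact hρ

/-- A degree one place outside a finite set. -/
theorem exists_place_algHom (L : Type u) [Field L] [Algebra k L] [FiniteDimensional k L]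
    (P : Finset (HeightOneSpectrum (𝓞 k))) :
    ∃ v : HeightOneSpectrum (𝓞 k), v ∉ P ∧ Nonempty (L →ₐ[k] v.adicCompletion k) := by
  classical
  obtain ⟨θ, hθ⟩ := Field.exists_primitive_element k L
  have hi : IsIntegral k θ := IsIntegral.of_finite k θ
  let f := minpoly k θ
  obtain ⟨a, b, hab⟩ : IsCoprime f (derivative f) := ((minpoly.irreducible hi).separable :)
  let Bad : Set (HeightOneSpectrum (𝓞 k)) := (P : Set _) ∪
    ⋃ q ∈ ({f, a, b} : Finset k[X]), ⋃ i ∈ q.support, HeightOneSpectrum.Support _ (q.coeff i)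
  have hBad : Bad.Finite := P.finite_toSet.union ((Finset.finite_toSet _).biUnion fun q _ =>
    (Finset.finite_toSet _).biUnion fun i _ => HeightOneSpectrum.Support.finite _ _)
  obtain ⟨v, hv, c, hc, hlt⟩ := exists_place_root k f (minpoly.natDegree_pos hi) hBad.toFinset
  rw [hBad.mem_toFinset] at hv
  have hint : ∀ q ∈ ({f, a, b} : Finset k[X]), ∀ i, v.valuation k (q.coeff i) ≤ 1 := by
    intro q hq i
    by_cases hqi : i ∈ q.support
    · exact not_lt.1 fun h => hv (Or.inr (Set.mem_biUnion hq (Set.mem_biUnion hqi h)))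
    · rw [Polynomial.notMem_support_iff.1 hqi, map_zero]; exact zero_le
  obtain ⟨ρ, hρ⟩ := exists_root_completion k v f a b hab (hint f (by simp)) (hint a (by simp)) (hint b (by simp)) c hc hlt
  exact ⟨v, fun h => hv (Or.inl h), nonempty_algHom_of_root k _ θ hθ ρ hρ⟩

end Groth.StrongApx
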